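import Cfsg.Agent.H689.Fisch.Trans
import Cfsg.Agent.H516.Bad
import Cfsg.Agent.H711.FiEven
import Cfsg.Agent.R08.TetBigInst
import Cfsg.Agent.H819.CubeFi24

/-!
# S4095, `p = 2`: the row `Fi24'` (helper689)

The bad automorphism is conjugation by an element of `Fi24`; it acts on the class of 3-transpositions, and the products of
two 3-transpositions are in `Fi24'` (`Sys.fix_all`).
-/

set_option autoImplicit false

namespace Cfsg.Agent.H689.Fisch

open Cfsg Cfsg.Agent.H516 Subgroup
open Cfsg.Agent.Fischer.Abstract Cfsg.Agent.LThreeM.SrgFix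
open Cfsg.Agent.R08.FiTwentyFour (L finite_Fi24 card_commutator)
open Cfsg.Agent.R08
open Cfsg.Spor (Fi24)

universe u

theorem sys_fi24 : Sys (L : Set Fi24) where
  sq d hd := FiTwentyFour.sq hd
  conj d hd e he := by
    have h := FiTwentyFour.conj hd e
    rwa [inv_eq_of_mul_eq_one_left (FiTwentyFour.sq he)] at h
  three d hd e he := FiTwentyFour.three hd he
  sep f hf f' hf' hne hc := by
    have := finite_Fi24
    by_contra hcon
    push Not at hcon
    have h1 := TetBigInst.hyp.n1 f' hf'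
    have h2 := TetBigInst.hyp.n2 f hf f' hf' hne.symm hc
    have h3 : {c | c ∈ (L : Set Fi24) ∧ c ≠ f' ∧ Commute c f'} ⊆
        insert f {c | c ∈ (L : Set Fi24) ∧ c ≠ f ∧ c ≠ f' ∧ Commute c f ∧ Commute c f'} := by
      rintro c ⟨h4, h5, h6⟩
      by_cases hcf : c = f
      · exact Or.inl hcf
      · exact Or.inr ⟨h4, hcf, h5, hcon c h4 h6, h6⟩
    have h4 := (Set.ncard_le_ncard h3 (Set.toFinite _)).trans (Set.ncard_insert_le _ _)
    rw [h1, h2] at h4
    omega
  com d hd d' hd' hn := by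
    have := finite_Fi24
    obtain ⟨R, -, -, hR⟩ := FiTwentyFour.facts.exists_rank3
    have hfX : Finite (Fi24 ⧸ Cfsg.Agent.Fischer.Fi24RepOrb.H) := inferInstance
    rw [← hR] at hd hd' ⊢
    obtain ⟨x, rfl⟩ := hd
    obtain ⟨y, rfl⟩ := hd'
    have h1 := ncard_cn_ncom R hn
    rw [Cfsg.Agent.H711.FiEven.cb_card R hR] at h1
    obtain ⟨z, hz⟩ := Set.nonempty_of_ncard_ne_zero (s := cn R x y) (by rw [h1]; norm_num)
    exact ⟨R.t z, ⟨z, rfl⟩, R.com_symm hz.1.2, R.com_symm hz.2.2⟩

theorem closure_L : closure (L : Set Fi24) = ⊤ := by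
  obtain ⟨R, -, -, hR⟩ := FiTwentyFour.facts.exists_rank3
  rw [← hR]
  exact R.gen

/-- **The row `Fi24'`.** -/
theorem row_fi24 {L : Type u} [Group L] (h : Spor.IsoFi24' L) : Row 2 L := by
  obtain ⟨e⟩ := h
  rw [row_iff]
  intro a ha
  let α : MulAut (commutator Fi24) := MulAut.congr e a
  obtain ⟨g, hg⟩ := Cfsg.Agent.H819.CubeFi24.conj_surjective α
  have hα : ∀ u : commutator Fi24, g * (u : Fi24) * g⁻¹ = ((e (a (e.symm u)) : commutator Fi24) : Fi24) := by
    intro u
    have h1 := congrArg (fun f : MulAut (commutator Fi24) => ((f u : commutator Fi24) : Fi24)) hg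
    simp only [MulAut.conjNormal_apply] at h1
    exact h1
  have key : ∀ d ∈ (FiTwentyFour.L : Set Fi24), MulAut.conj g d = d := by
    intro d hd
    refine sys_fi24.fix_all (MulAut.conj g) (fun d hd => FiTwentyFour.conj hd g) ?_ hd
    intro d hd f hf n hn hp
    have h1 : (MulAut.conj g (d * f))⁻¹ * (d * f) =
        ((e ((a (e.symm ⟨d * f, FiTwentyFour.even hd hf⟩))⁻¹ * e.symm ⟨d * f, FiTwentyFour.even hd hf⟩) :
          commutator Fi24) : Fi24) := by
      rw [map_mul e, map_inv e, MulEquiv.apply_symm_apply, MulAut.conj_apply]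
      show _ = ((e (a (e.symm ⟨d * f, FiTwentyFour.even hd hf⟩)) : commutator Fi24) : Fi24)⁻¹ * (d * f)
      rw [← hα ⟨d * f, FiTwentyFour.even hd hf⟩]
    rw [h1] at hp ⊢
    rcases ha (e.symm ⟨d * f, FiTwentyFour.even hd hf⟩) with h2 | h2
    · rw [h2, map_one]
      rfl
    · exfalso
      have h3 : orderOf ((a (e.symm ⟨d * f, FiTwentyFour.even hd hf⟩))⁻¹ * e.symm ⟨d * f, FiTwentyFour.even hd hf⟩) ∣ n := by
        rw [← MulEquiv.orderOf_eq e, ← Subgroup.orderOf_coe]
        exact orderOf_dvd_of_pow_eq_one hp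
      exact (Nat.not_even_iff_odd.2 hn) (even_iff_two_dvd.2 (h2.trans h3))
  have htop : (⊤ : Subgroup Fi24) ≤ centralizer {g} := by
    rw [← closure_L, closure_le]
    intro d hd
    have h1 := key d hd
    rw [MulAut.conj_apply, mul_inv_eq_iff_eq_mul] at h1
    exact mem_centralizer_singleton_iff.2 h1.symm
  ext s
  have h1 := hα (e s)
  have h2 : ((e s : commutator Fi24) : Fi24) ∈ centralizer {g} := htop (mem_top _)
  rw [MulEquiv.symm_apply_apply, ← mem_centralizer_singleton_iff.1 h2, mul_inv_cancel_right] at h1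
  have h3 : e s = e (a s) := Subtype.ext h1
  exact (e.injective h3).symm

end Cfsg.Agent.H689.Fisch
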