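import Mathlib.GroupTheory.OrderOfElement
import Mathlib.Tactic.Group
import Mathlib.Tactic.NormNum

/-!
# Automorphisms of classes of 3-transpositions (helper689)

`D` a set of involutions, closed under conjugation by its members, two members commute or satisfy the braid relation
`a b a = b a b`; `α` an injective multiplicative map with `α D ⊆ D`.

* `path_five` : a Coxeter element of `A₄` has order 5;
* `tri_nine` : the product of the four generators of `G(3,3,4)` has order 9;
* `Sys.fix_all` : **if no product `(α (d f))⁻¹ * (d f) ≠ 1`, `d, f ∈ D`, has odd order, then `α` is trivial on `D`.**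
-/

set_option autoImplicit false

namespace Cfsg.Agent.H689.Fisch

section Words

variable {G : Type*} [Group G]

theorem path_five {p q r s : G} (hp : p * p = 1) (hq : q * q = 1) (hr : r * r = 1) (hs : s * s = 1)
    (hpq : p * q * p = q * p * q) (hqr : q * r * q = r * q * r) (hrs : r * s * r = s * r * s)
    (hpr : Commute p r) (hps : Commute p s) (hqs : Commute q s) : (p * q * r * s) ^ 5 = 1 := by
  have ep : ∀ x, p * (p * x) = x := fun x => by rw [← mul_assoc, hp, one_mul]
  have eq' : ∀ x, q * (q * x) = x := fun x => by rw [← mul_assoc, hq, one_mul]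
  have er : ∀ x, r * (r * x) = x := fun x => by rw [← mul_assoc, hr, one_mul]
  have es : ∀ x, s * (s * x) = x := fun x => by rw [← mul_assoc, hs, one_mul]
  have b1 : ∀ x, q * (p * (q * x)) = p * (q * (p * x)) := fun x => by
    have := congrArg (· * x) hpq.symm
    simpa only [mul_assoc] using this
  have b2 : ∀ x, r * (q * (r * x)) = q * (r * (q * x)) := fun x => by
    have := congrArg (· * x) hqr.symm
    simpa only [mul_assoc] using this
  have b3 : ∀ x, s * (r * (s * x)) = r * (s * (r * x)) := fun x => by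
    have := congrArg (· * x) hrs.symm
    simpa only [mul_assoc] using this
  have c1 : ∀ x, r * (p * x) = p * (r * x) := fun x => by rw [← mul_assoc, ← hpr.eq, mul_assoc]
  have c2 : ∀ x, s * (p * x) = p * (s * x) := fun x => by rw [← mul_assoc, ← hps.eq, mul_assoc]
  have c3 : ∀ x, s * (q * x) = q * (s * x) := fun x => by rw [← mul_assoc, ← hqs.eq, mul_assoc]
  have l1 : ∀ x, r * (q * (p * (r * x))) = q * (r * (q * (p * x))) := fun x => by rw [← c1, b2]
  have l2 : ∀ x, s * (r * (q * (s * x))) = r * (s * (r * (q * x))) := fun x => by rw [← c3, b3]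
  have l3 : ∀ x, s * (r * (q * (p * (s * x)))) = r * (s * (r * (q * (p * x)))) := fun x => by
    rw [← c2, ← c3, b3]
  have key : ∀ x : G, p * (q * (r * (s * (p * (q * (r * (s * (p * (q * (r * (s * (p * (q * (r * (s * (p * (q * (r *
      (s * x))))))))))))))))))) = x := by
    intro x
    simp only [ep, eq', er, es, b1, b2, b3, c1, c2, c3, l1, l2, l3]
  have h := key 1
  rw [mul_one] at h
  simpa only [pow_succ, pow_zero, one_mul, mul_assoc] using h

/-- the product of two involutions satisfying the braid relation -/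
theorem braid_cube {a b : G} (ha : a * a = 1) (hb : b * b = 1) (h : a * b * a = b * a * b) : (a * b) ^ 3 = 1 := by
  calc (a * b) ^ 3 = (a * b * a) * (b * a * b) := by simp only [pow_succ, pow_zero, one_mul, mul_assoc]
    _ = (b * a * b) * (b * a * b) := by rw [h]
    _ = b * a * (b * b) * a * b := by simp only [mul_assoc]
    _ = 1 := by rw [hb, mul_one, mul_assoc b a a, ha, mul_one, hb]

theorem tri_nine {a b c e : G} (ha : a * a = 1) (hb : b * b = 1) (hc : c * c = 1) (he : e * e = 1)
    (hab : a * b * a = b * a * b) (hac : a * c * a = c * a * c) (hbc : b * c * b = c * b * c)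
    (hce : c * e * c = e * c * e) (hae : Commute a e) (hbe : Commute b e)
    (h1 : (b * a * b) * c * (b * a * b) = c * (b * a * b) * c) : (e * a * b * c) ^ 9 = 1 := by
  have ia : a⁻¹ = a := inv_eq_of_mul_eq_one_left ha
  have ib : b⁻¹ = b := inv_eq_of_mul_eq_one_left hb
  have ic : c⁻¹ = c := inv_eq_of_mul_eq_one_left hc
  have ie : e⁻¹ = e := inv_eq_of_mul_eq_one_left he
  obtain ⟨u, hu⟩ : ∃ u, u = a * b := ⟨_, rfl⟩
  obtain ⟨r, hr⟩ : ∃ r, r = a * c := ⟨_, rfl⟩
  have u3 : u ^ 3 = 1 := by rw [hu]; exact braid_cube ha hb hab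
  have r3 : r ^ 3 = 1 := by rw [hr]; exact braid_cube ha hc hac
  have q1 : (u⁻¹ * r) ^ 3 = 1 := by
    have h2 : u⁻¹ * r = b * c := by
      rw [hu, hr, mul_inv_rev, ia, ib, ← mul_assoc, mul_assoc b a a, ha, mul_one]
    rw [h2]
    exact braid_cube hb hc hbc
  have q2 : (u * r) ^ 3 = 1 := by
    have h2 : u * r = (b * a * b) * c := by
      rw [hu, hr, ← hab]
      simp only [mul_assoc]
    rw [h2]
    refine braid_cube ?_ hc h1
    calc b * a * b * (b * a * b) = b * a * (b * b) * a * b := by simp only [mul_assoc]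
      _ = 1 := by rw [hb, mul_one, mul_assoc b a a, ha, mul_one, hb]
  have r2 : r * r = r⁻¹ := by
    rw [eq_inv_iff_mul_eq_one]
    simpa only [pow_succ, pow_zero, one_mul, mul_assoc] using r3
  -- `u` commutes with `r u r⁻¹`
  have q3 : Commute u (r * u * r⁻¹) := by
    have e1 : u * (r * u * r⁻¹) * (r⁻¹ * u * r) = 1 := by
      calc u * (r * u * r⁻¹) * (r⁻¹ * u * r) = u * r * u * (r⁻¹ * r⁻¹) * u * r := by simp only [mul_assoc]
        _ = (u * r) ^ 3 := by
          rw [show r⁻¹ * r⁻¹ = r by rw [← mul_inv_rev, r2, inv_inv]]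
          simp only [pow_succ, pow_zero, one_mul, mul_assoc]
        _ = 1 := q2
    have e2 : u⁻¹ * (r * u⁻¹ * r⁻¹) * (r⁻¹ * u⁻¹ * r) = 1 := by
      calc u⁻¹ * (r * u⁻¹ * r⁻¹) * (r⁻¹ * u⁻¹ * r) = u⁻¹ * r * u⁻¹ * (r⁻¹ * r⁻¹) * u⁻¹ * r := by
            simp only [mul_assoc]
        _ = (u⁻¹ * r) ^ 3 := by
          rw [show r⁻¹ * r⁻¹ = r by rw [← mul_inv_rev, r2, inv_inv]]
          simp only [pow_succ, pow_zero, one_mul, mul_assoc]
        _ = 1 := q1
    have e3 : (r⁻¹ * u * r) * (r * u * r⁻¹) * u = 1 := by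
      have h2 := congrArg (·⁻¹) e2
      simp only [mul_inv_rev, inv_inv, inv_one] at h2
      rw [← h2]
      simp only [mul_assoc]
    have e4 : u * (r * u * r⁻¹) = (r⁻¹ * u * r)⁻¹ := eq_inv_of_mul_eq_one_left e1
    have e5 : (r * u * r⁻¹) * u = (r⁻¹ * u * r)⁻¹ := by
      rw [mul_assoc] at e3
      exact eq_inv_of_mul_eq_one_right e3
    exact e4.trans e5.symm
  -- `u` commutes with `t = c u c`
  have q4 : Commute u (c * u * c) := by
    have h2 : a * u * a = u⁻¹ := by rw [hu, mul_inv_rev, ia, ib, ← mul_assoc, ha, one_mul]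
    have h3 : a * (r * u * r⁻¹) * a = c * u * c := by
      rw [hr, mul_inv_rev, ia, ic]
      calc a * (a * c * u * (c * a)) * a = (a * a) * c * u * c * (a * a) := by simp only [mul_assoc]
        _ = c * u * c := by rw [ha, one_mul, mul_one]
    have h4 : Commute (a * u * a) (a * (r * u * r⁻¹) * a) := by
      show a * u * a * (a * (r * u * r⁻¹) * a) = a * (r * u * r⁻¹) * a * (a * u * a)
      calc a * u * a * (a * (r * u * r⁻¹) * a) = a * (u * (a * a) * (r * u * r⁻¹)) * a := by simp only [mul_assoc]
        _ = a * (u * (r * u * r⁻¹)) * a := by rw [ha, mul_one]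
        _ = a * ((r * u * r⁻¹) * u) * a := by rw [q3.eq]
        _ = a * ((r * u * r⁻¹) * (a * a) * u) * a := by rw [ha, mul_one]
        _ = _ := by simp only [mul_assoc]
    rw [h2, h3] at h4
    exact Commute.inv_left_iff.1 h4
  obtain ⟨t, ht⟩ : ∃ t, t = c * u * c := ⟨_, rfl⟩
  obtain ⟨v, hv⟩ : ∃ v, v = e * t * e := ⟨_, rfl⟩
  rw [← ht] at q4
  have ue : Commute u e := by rw [hu]; exact hae.mul_left hbe
  have eue : e * u * e = u := by rw [← ue.eq, mul_assoc, he, mul_one]
  have cj : ∀ {g x y : G}, g * g = 1 → Commute x y → Commute (g * x * g) (g * y * g) := by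
    intro g x y hg h
    show g * x * g * (g * y * g) = g * y * g * (g * x * g)
    calc g * x * g * (g * y * g) = g * (x * (g * g) * y) * g := by simp only [mul_assoc]
      _ = g * (x * y) * g := by rw [hg, mul_one]
      _ = g * (y * x) * g := by rw [h.eq]
      _ = g * (y * (g * g) * x) * g := by rw [hg, mul_one]
      _ = _ := by simp only [mul_assoc]
  have q5 : Commute u v := by
    have h2 := cj he q4
    rwa [eue, ← hv] at h2
  have cvc : c * v * c = v := by
    rw [hv, ht]
    calc c * (e * (c * u * c) * e) * c = (c * e * c) * u * (c * e * c) := by simp only [mul_assoc]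
      _ = (e * c * e) * u * (e * c * e) := by rw [hce]
      _ = e * c * (e * u * e) * c * e := by simp only [mul_assoc]
      _ = e * (c * u * c) * e := by rw [eue]; simp only [mul_assoc]
  have q6 : Commute t v := by
    have h2 := cj hc q5
    rwa [cvc, ← ht] at h2
  -- the cube
  have hw : e * a * b * c = u * (e * c) := by
    rw [← mul_assoc, ue.eq, hu]
    simp only [mul_assoc]
  have ec3 : (e * c) ^ 3 = 1 := braid_cube he hc hce.symm
  have k1 : (e * c) * u = v * (e * c) := by
    rw [hv, ht]
    calc e * c * u = e * c * u * (c * c) := by rw [hc, mul_one]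
      _ = e * (c * u * c) * (e * e) * c := by rw [he, mul_one]; simp only [mul_assoc]
      _ = _ := by simp only [mul_assoc]
  have k2 : (e * c) * v = t * (e * c) := by
    calc e * c * v = e * (c * v * c) * c := by
          calc e * c * v = e * c * v * (c * c) := by rw [hc, mul_one]
            _ = _ := by simp only [mul_assoc]
      _ = e * v * c := by rw [cvc]
      _ = (e * e) * t * e * c := by rw [hv]; simp only [mul_assoc]
      _ = t * (e * c) := by rw [he, one_mul, mul_assoc]
  have hcube : (e * a * b * c) ^ 3 = u * v * t := by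
    rw [hw]
    calc (u * (e * c)) ^ 3 = u * ((e * c) * u) * ((e * c) * u) * (e * c) := by
          simp only [pow_succ, pow_zero, one_mul, mul_assoc]
      _ = u * v * ((e * c) * v) * (e * c) * (e * c) := by rw [k1]; simp only [mul_assoc]
      _ = u * v * t * ((e * c) * (e * c) * (e * c)) := by rw [k2]; simp only [mul_assoc]
      _ = u * v * t := by
        have h3 : (e * c) * (e * c) * (e * c) = 1 := by
          rw [← ec3]
          simp only [pow_succ, pow_zero, one_mul]
        rw [h3, mul_one]
  have t3 : t ^ 3 = 1 := by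
    have h2 : t = MulAut.conj c u := by rw [MulAut.conj_apply, ic]; exact ht
    rw [h2, ← map_pow, u3, map_one]
  have v3 : v ^ 3 = 1 := by
    have h2 : v = MulAut.conj e t := by rw [MulAut.conj_apply, ie]; exact hv
    rw [h2, ← map_pow, t3, map_one]
  rw [show 9 = 3 * 3 from rfl, pow_mul, hcube, (Commute.mul_left q4 q6.symm).mul_pow, q5.mul_pow, u3, v3, t3, one_mul,
    one_mul]

theorem pow_of_conj {x y : G} {n : ℕ} (g : G) (h : x = g * y * g⁻¹) (hy : y ^ n = 1) : x ^ n = 1 := by
  rw [h, ← MulAut.conj_apply, ← map_pow, hy, map_one]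

/-- four orders of the factors of a Coxeter element -/
theorem path_a {p q r s : G} (hp : p * p = 1) (hq : q * q = 1) (hr : r * r = 1) (hs : s * s = 1)
    (hpq : p * q * p = q * p * q) (hqr : q * r * q = r * q * r) (hrs : r * s * r = s * r * s)
    (hpr : Commute p r) (hps : Commute p s) (hqs : Commute q s) : (r * s * q * p) ^ 5 = 1 := by
  refine pow_of_conj (r * s * p) ?_ (path_five hp hq hr hs hpq hqr hrs hpr hps hqs)
  have h1 : (r * s) * p⁻¹ * (r * s)⁻¹ = p := by
    rw [inv_eq_of_mul_eq_one_left hp, ← (hpr.mul_right hps).eq, mul_assoc, mul_inv_cancel, mul_one]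
  calc r * s * q * p = r * s * q * ((r * s) * p⁻¹ * (r * s)⁻¹) := by rw [h1]
    _ = r * s * (p * p) * q * (r * s) * p⁻¹ * (r * s)⁻¹ := by rw [hp, mul_one]; simp only [mul_assoc]
    _ = _ := by rw [mul_inv_rev (r * s) p]; simp only [mul_assoc]

theorem path_b {p q r s : G} (hp : p * p = 1) (hq : q * q = 1) (hr : r * r = 1) (hs : s * s = 1)
    (hpq : p * q * p = q * p * q) (hqr : q * r * q = r * q * r) (hrs : r * s * r = s * r * s)
    (hpr : Commute p r) (hps : Commute p s) (hqs : Commute q s) : (r * s * p * q) ^ 5 = 1 := by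
  refine pow_of_conj (r * s) ?_ (path_five hp hq hr hs hpq hqr hrs hpr hps hqs)
  calc r * s * p * q = r * s * (p * q) * ((r * s) * (r * s)⁻¹) := by rw [mul_inv_cancel, mul_one, mul_assoc (r * s)]
    _ = _ := by simp only [mul_assoc]

theorem path_c {p q r s : G} (hp : p * p = 1) (hq : q * q = 1) (hr : r * r = 1) (hs : s * s = 1)
    (hpq : p * q * p = q * p * q) (hqr : q * r * q = r * q * r) (hrs : r * s * r = s * r * s)
    (hpr : Commute p r) (hps : Commute p s) (hqs : Commute q s) : (p * r * s * q) ^ 5 = 1 := by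
  refine pow_of_conj p⁻¹ ?_ (pow_of_conj (p * q⁻¹) (x := p * (p * r * s * q) * p⁻¹) ?_
    (pow_of_conj p⁻¹ (x := q * r * s * p) ?_ (path_five hp hq hr hs hpq hqr hrs hpr hps hqs)))
  · group
  · have h1 : p * (r * s) = r * s * p := (hpr.mul_right hps).eq
    calc p * (p * r * s * q) * p⁻¹ = p * (p * (r * s)) * q * p⁻¹ := by simp only [mul_assoc]
      _ = p * (r * s * p) * q * p⁻¹ := by rw [h1]
      _ = p * q⁻¹ * (q * r * s * p) * (p * q⁻¹)⁻¹ := by group
  · group

theorem path_d {p q r s : G} (hp : p * p = 1) (hq : q * q = 1) (hr : r * r = 1) (hs : s * s = 1)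
    (hpq : p * q * p = q * p * q) (hqr : q * r * q = r * q * r) (hrs : r * s * r = s * r * s)
    (hpr : Commute p r) (hps : Commute p s) (hqs : Commute q s) : (r * p * q * s) ^ 5 = 1 := by
  have h : r * p * q * s = p * r * s * q := by
    rw [← hpr.eq, mul_assoc _ q, hqs.eq]
    simp only [mul_assoc]
  rw [h]
  exact path_c hp hq hr hs hpq hqr hrs hpr hps hqs

end Words

/-- a class of 3-transpositions -/
structure Sys {G : Type*} [Group G] (D : Set G) : Prop where
  sq : ∀ d ∈ D, d * d = 1
  conj : ∀ d ∈ D, ∀ e ∈ D, e * d * e ∈ D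
  three : ∀ d ∈ D, ∀ e ∈ D, Commute d e ∨ d * e * d = e * d * e
  sep : ∀ f ∈ D, ∀ f' ∈ D, f' ≠ f → Commute f f' → ∃ g ∈ D, Commute g f' ∧ ¬ Commute g f
  com : ∀ d ∈ D, ∀ d' ∈ D, ¬ Commute d d' → ∃ f ∈ D, Commute f d ∧ Commute f d'

namespace Sys

variable {G : Type*} [Group G] {D : Set G} (S : Sys D) (α : G ≃* G)
include S

omit S in
theorem comm_map {x y : G} : Commute (α x) (α y) ↔ Commute x y := by
  constructor
  · intro h
    have h1 := h.map α.symm
    simpa using h1
  · intro h
    exact h.map α

theorem word_eq {d f : G} (hd : α d ∈ D) (hf : α f ∈ D) : (α (d * f))⁻¹ * (d * f) = α f * α d * d * f := by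
  rw [map_mul, mul_inv_rev, inv_eq_of_mul_eq_one_left (S.sq _ hd), inv_eq_of_mul_eq_one_left (S.sq _ hf)]
  simp only [mul_assoc]

variable (hα : ∀ d ∈ D, α d ∈ D)
  (bad : ∀ d ∈ D, ∀ f ∈ D, ∀ n : ℕ, Odd n → ((α (d * f))⁻¹ * (d * f)) ^ n = 1 → (α (d * f))⁻¹ * (d * f) = 1)
include hα bad

/-- no member of `D` is moved to a commuting one -/
theorem step_one {f : G} (hf : f ∈ D) (hc : Commute (α f) f) : α f = f := by
  by_contra hne
  obtain ⟨g, hg, hgf', hgf⟩ := S.sep f hf (α f) (hα f hf) hne hc.symm
  have hw := S.word_eq α (hα f hf) (hα g hg)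
  have bad' : ∀ n : ℕ, Odd n → (α g * α f * f * g) ^ n = 1 → α g * α f * f * g = 1 := by
    intro n hn h
    rw [← hw] at h ⊢
    exact bad f hf g hg n hn h
  have hf2 := S.sq f hf
  have hg2 := S.sq g hg
  have hf2' := S.sq _ (hα f hf)
  have hg2' := S.sq _ (hα g hg)
  have b1 : f * g * f = g * f * g := (S.three f hf g hg).resolve_left fun h => hgf h.symm
  have hgf2 : ¬ Commute (α g) (α f) := fun h => hgf ((comm_map α).1 h)
  have b2 : α f * α g * α f = α g * α f * α g := by rw [← map_mul, ← map_mul, b1, map_mul, map_mul]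
  have hfg : ¬ Commute f g := fun h => hgf h.symm
  have nt : α g * α f * f * g ≠ 1 := by
    intro h
    -- `g'f' = g f`
    have h1 : α g * α f = g * f := by
      have h2 : (α g * α f) * (f * g) = 1 := by rw [← mul_assoc]; exact h
      rw [eq_inv_of_mul_eq_one_left h2, mul_inv_rev, inv_eq_of_mul_eq_one_left hf2, inv_eq_of_mul_eq_one_left hg2]
    -- `f'` commutes with `g f`
    have h2 : Commute (α f) (g * f) := hgf'.symm.mul_right hc
    rw [← h1] at h2
    have h3 : Commute (α f) (α g) := by
      have h4 := h2.mul_right (Commute.refl (α f))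
      rwa [mul_assoc, hf2', mul_one] at h4
    exact hgf2 h3.symm
  rcases S.three g hg (α g) (hα g hg) with h1 | h1
  · rcases S.three f hf (α g) (hα g hg) with h2 | h2
    · -- both pairs commute
      refine nt (bad' 3 (by decide) ?_)
      have h3 : Commute (α g * α f) (f * g) :=
        Commute.mul_left (h2.symm.mul_right h1.symm) (hc.mul_right hgf'.symm)
      rw [mul_assoc, h3.mul_pow, braid_cube hg2' hf2' b2.symm, braid_cube hf2 hg2 b1, one_mul]
    · exact nt (bad' 5 (by decide) (path_a hg2 hf2 hg2' hf2' b1.symm h2 b2.symm h1 hgf' hc.symm))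
  · rcases S.three f hf (α g) (hα g hg) with h2 | h2
    · exact nt (bad' 5 (by decide) (path_b hf2 hg2 hg2' hf2' b1 h1 b2.symm h2 hc.symm hgf'))
    · -- the triangle
      have ha1 : g * f * g ∈ D := S.conj f hf g hg
      have key : ∀ n : ℕ, (α f * f * g * α g) ^ n = 1 → (α g * α f * f * g) ^ n = 1 := by
        intro n hn
        refine pow_of_conj (α g) ?_ hn
        rw [mul_assoc _ (α f * f * g * α g), mul_assoc _ (α g), mul_inv_cancel, mul_one]
        simp only [mul_assoc]
      rcases S.three _ ha1 (α g) (hα g hg) with h3 | h3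
      · refine nt (bad' 5 (by decide) (key 5 ?_))
        have h4 : α f * f * g * α g = α f * g * (g * f * g) * α g := by
          have h5 : g * (g * f * g) = f * g := by
            rw [← mul_assoc, ← mul_assoc, hg2, one_mul]
          rw [mul_assoc (α f) g, h5]
          simp only [mul_assoc]
        rw [h4]
        have h6 : (g * f * g) * (g * f * g) = 1 := S.sq _ ha1
        have h7 : g * (g * f * g) * g = (g * f * g) * g * (g * f * g) := by
          have e1 : g * (g * f * g) * g = f := by
            calc g * (g * f * g) * g = (g * g) * f * (g * g) := by simp only [mul_assoc]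
              _ = f := by rw [hg2, one_mul, mul_one]
          have e2 : (g * f * g) * g * (g * f * g) = f := by
            calc (g * f * g) * g * (g * f * g) = g * f * (g * g) * g * f * g := by simp only [mul_assoc]
              _ = g * (f * g * f) * g := by rw [hg2, mul_one]; simp only [mul_assoc]
              _ = g * (g * f * g) * g := by rw [b1]
              _ = f := e1
          rw [e1, e2]
        exact path_c hf2' hg2' hg2 h6 b2 h1.symm h7 hgf'.symm
          ((hgf'.symm.mul_right hc).mul_right hgf'.symm) h3.symm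
      · exact nt (bad' 9 (by decide) (key 9 (tri_nine hf2 hg2 hg2' hf2' b1 h2 h1 b2.symm hc.symm hgf' h3)))

/-- **The automorphism is trivial on `D`.** -/
theorem fix_all {d : G} (hd : d ∈ D) : α d = d := by
  by_contra hne
  have hnc : ¬ Commute (α d) d := fun h => hne (S.step_one α hα bad hd h)
  obtain ⟨f, hf, hfd, hfd'⟩ := S.com d hd (α d) (hα d hd) fun h => hnc h.symm
  have hw := S.word_eq α (hα d hd) (hα f hf)
  have bad' : ∀ n : ℕ, Odd n → (α f * α d * d * f) ^ n = 1 → α f * α d * d * f = 1 := by
    intro n hn h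
    rw [← hw] at h ⊢
    exact bad d hd f hf n hn h
  have hf2 := S.sq f hf
  have hd2 := S.sq d hd
  have hf2' := S.sq _ (hα f hf)
  have hd2' := S.sq _ (hα d hd)
  have b1 : α d * d * α d = d * α d * d := (S.three _ (hα d hd) d hd).resolve_left hnc
  have h1 : Commute (α f) (α d) := (comm_map α).2 hfd
  have nt : α f * α d * d * f ≠ 1 := by
    intro h
    -- `f' d' = f d`
    have h1' : α f * α d = f * d := by
      have h2 : (α f * α d) * (d * f) = 1 := by rw [← mul_assoc]; exact h
      rw [eq_inv_of_mul_eq_one_left h2, mul_inv_rev, inv_eq_of_mul_eq_one_left hf2, inv_eq_of_mul_eq_one_left hd2]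
    -- `d'` commutes with `f d`
    have h2 : Commute (α d) (f * d) := by
      rw [← h1']
      exact h1.symm.mul_right (Commute.refl _)
    have h3 : Commute (α d) d := by
      have h4 := hfd'.symm.mul_right h2
      rwa [← mul_assoc, hf2, one_mul] at h4
    exact hnc h3
  by_cases hcf : Commute (α f) f
  · have h2 := S.step_one α hα bad hf hcf
    refine nt (bad' 3 (by decide) ?_)
    rw [h2]
    refine pow_of_conj f ?_ (braid_cube hd2' hd2 b1)
    rw [inv_eq_of_mul_eq_one_left hf2]
    simp only [mul_assoc]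
  · have b2 : α f * f * α f = f * α f * f := (S.three _ (hα f hf) f hf).resolve_left hcf
    rcases S.three d hd (α f) (hα f hf) with h2 | h2
    · refine nt (bad' 3 (by decide) ?_)
      have h3 : α f * α d * d * f = (α f * f) * (α d * d) := by
        have h4 : Commute (α d * d) f := Commute.mul_left hfd'.symm hfd.symm
        calc α f * α d * d * f = α f * ((α d * d) * f) := by simp only [mul_assoc]
          _ = α f * (f * (α d * d)) := by rw [h4.eq]
          _ = _ := by simp only [mul_assoc]
      have h5 : Commute (α f * f) (α d * d) :=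
        Commute.mul_left (h1.mul_right h2.symm) (hfd'.mul_right hfd)
      rw [h3, h5.mul_pow, braid_cube hf2' hf2 b2, braid_cube hd2' hd2 b1, one_mul]
    · exact nt (bad' 5 (by decide) (path_d hd2' hd2 hf2' hf2 b1 h2 b2 h1.symm hfd'.symm hfd.symm))

end Sys

end Cfsg.Agent.H689.Fisch
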